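import Mathlib.AlgebraicTopology.CechNerve
import Mathlib.AlgebraicTopology.SimplicialObject.Coskeletal
import Mathlib.CategoryTheory.Functor.KanExtension.Pointwise

set_option linter.unusedSectionVars false
set_option linter.unusedVariables false
set_option linter.unusedSimpArgs false
set_option autoImplicit false
set_option linter.style.haveILetI false
set_option maxHeartbeats 400000

noncomputable section

namespace Groth.Agent.Lib.Helper6.Cosk

open CategoryTheory CategoryTheory.Limits Opposite SimplexCategory Simplicial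
open CategoryTheory.Functor SimplicialObject SimplicialObject.Truncated

universe v u

variable {C : Type u} [Category.{v} C] [HasFiniteProducts C] (X : C) (n : ℕ)

/-- The structured arrow associated to a map from a small simplex. -/
abbrev sArr {i m : ℕ} (φ : ⦋i⦌ ⟶ ⦋m⦌) (hi : i ≤ n) :
    StructuredArrow (op ⦋m⦌) (SimplexCategory.Truncated.inclusion n).op :=
  StructuredArrow.mk (Y := op (⟨⦋i⦌, hi⟩ : SimplexCategory.Truncated n)) φ.op

/-- the power object -/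
abbrev P (m : ℕ) : C := ∏ᶜ fun _ : Fin (m + 1) => X

/-- the transition maps -/
def cmap {a b : ℕ} (g : ⦋a⦌ ⟶ ⦋b⦌) : P X b ⟶ P X a :=
  Pi.lift fun i => Pi.π (fun _ : Fin (b + 1) => X) (g.toOrderHom i)

lemma cmap_eq {a b : ℕ} (g : ⦋a⦌ ⟶ ⦋b⦌) : (cechNerveTerminalFrom X).map g.op = cmap X g := rfl

lemma cmap_π {a b : ℕ} (g : ⦋a⦌ ⟶ ⦋b⦌) (k : Fin (a + 1)) :
    cmap X g ≫ Pi.π (fun _ : Fin (a + 1) => X) k =
      Pi.π (fun _ : Fin (b + 1) => X) (g.toOrderHom k) := by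
  simp [cmap]

/-- cone leg, typed -/
def leg {m : ℕ}
    (s : Cone (StructuredArrow.proj (op ⦋m⦌) (SimplexCategory.Truncated.inclusion n).op ⋙
      (SimplexCategory.Truncated.inclusion n).op ⋙ cechNerveTerminalFrom X))
    {i : ℕ} (hi : i ≤ n) (f : ⦋i⦌ ⟶ ⦋m⦌) : s.pt ⟶ P X i :=
  s.π.app (sArr n f hi)

lemma leg_w {m : ℕ}
    (s : Cone (StructuredArrow.proj (op ⦋m⦌) (SimplexCategory.Truncated.inclusion n).op ⋙
      (SimplexCategory.Truncated.inclusion n).op ⋙ cechNerveTerminalFrom X))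
    {i i' : ℕ} (hi : i ≤ n) (hi' : i' ≤ n) (f : ⦋i⦌ ⟶ ⦋m⦌) (g : ⦋i'⦌ ⟶ ⦋i⦌) :
    leg X n s hi f ≫ cmap X g = leg X n s hi' (g ≫ f) := by
  let α : sArr n f hi ⟶ sArr n (g ≫ f) hi' :=
    StructuredArrow.homMk ((SimplexCategory.Truncated.Hom.tr g).op) (by
      apply Quiver.Hom.unop_inj
      rfl)
  exact s.w α

/-- the lift -/
def cechLift {m : ℕ}
    (s : Cone (StructuredArrow.proj (op ⦋m⦌) (SimplexCategory.Truncated.inclusion n).op ⋙
      (SimplexCategory.Truncated.inclusion n).op ⋙ cechNerveTerminalFrom X)) :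
    s.pt ⟶ P X m :=
  Pi.lift (fun k : Fin (m + 1) =>
    leg X n s (Nat.zero_le n) (⦋0⦌.const ⦋m⦌ k) ≫ Pi.π (fun _ : Fin (0 + 1) => X) 0)

lemma cechLift_π {m : ℕ}
    (s : Cone (StructuredArrow.proj (op ⦋m⦌) (SimplexCategory.Truncated.inclusion n).op ⋙
      (SimplexCategory.Truncated.inclusion n).op ⋙ cechNerveTerminalFrom X)) (k : Fin (m + 1)) :
    cechLift X n s ≫ Pi.π (fun _ : Fin (m + 1) => X) k =
      leg X n s (Nat.zero_le n) (⦋0⦌.const ⦋m⦌ k) ≫ Pi.π (fun _ : Fin (0 + 1) => X) 0 := by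
  simp [cechLift]

lemma leg_π {m : ℕ}
    (s : Cone (StructuredArrow.proj (op ⦋m⦌) (SimplexCategory.Truncated.inclusion n).op ⋙
      (SimplexCategory.Truncated.inclusion n).op ⋙ cechNerveTerminalFrom X))
    {i : ℕ} (hi : i ≤ n) (f : ⦋i⦌ ⟶ ⦋m⦌) (k : Fin (i + 1)) :
    leg X n s hi f ≫ Pi.π (fun _ : Fin (i + 1) => X) k =
      leg X n s (Nat.zero_le n) (⦋0⦌.const ⦋m⦌ (f.toOrderHom k)) ≫
        Pi.π (fun _ : Fin (0 + 1) => X) 0 := by
  have h := leg_w X n s hi (Nat.zero_le n) f (⦋0⦌.const ⦋i⦌ k)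
  have e : (⦋0⦌.const ⦋i⦌ k) ≫ f = ⦋0⦌.const ⦋m⦌ (f.toOrderHom k) := by
    ext x; rfl
  rw [e] at h
  rw [← h, Category.assoc, cmap_π]
  rfl

lemma fac_aux {m : ℕ}
    (s : Cone (StructuredArrow.proj (op ⦋m⦌) (SimplexCategory.Truncated.inclusion n).op ⋙
      (SimplexCategory.Truncated.inclusion n).op ⋙ cechNerveTerminalFrom X))
    {i : ℕ} (hi : i ≤ n) (f : ⦋i⦌ ⟶ ⦋m⦌) :
    cechLift X n s ≫ cmap X f = leg X n s hi f := by
  refine Pi.hom_ext (f := fun _ : Fin (i + 1) => X) _ _ (fun k => ?_)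
  rw [Category.assoc, cmap_π, cechLift_π]
  exact (leg_π X n s hi f k).symm

lemma uniq_aux {m : ℕ}
    (s : Cone (StructuredArrow.proj (op ⦋m⦌) (SimplexCategory.Truncated.inclusion n).op ⋙
      (SimplexCategory.Truncated.inclusion n).op ⋙ cechNerveTerminalFrom X))
    (g : s.pt ⟶ P X m)
    (hg : ∀ k : Fin (m + 1), g ≫ cmap X (⦋0⦌.const ⦋m⦌ k) =
      leg X n s (Nat.zero_le n) (⦋0⦌.const ⦋m⦌ k)) :
    g = cechLift X n s := by
  refine Pi.hom_ext (f := fun _ : Fin (m + 1) => X) _ _ (fun k => ?_)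
  rw [cechLift_π, ← hg k, Category.assoc, cmap_π]
  rfl

/-- pointwise right Kan extension -/
def cechIsPointwise (m : ℕ) :
    (rightExtensionInclusion (cechNerveTerminalFrom X) n).IsPointwiseRightKanExtensionAt
      ⟨⦋m⦌⟩ where
  lift s := cechLift X n s
  fac s j := by
    obtain ⟨⟨i, hi⟩, ⟨f : _ ⟶ _⟩, rfl⟩ := j.mk_surjective
    obtain ⟨i, rfl⟩ : ∃ j, ⦋j⦌ = i := ⟨_, i.mk_len⟩
    change i ≤ n at hi
    change ⦋i⦌ ⟶ ⦋m⦌ at f
    change cechLift X n s ≫ (cmap X f ≫ 𝟙 _) = leg X n s hi f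
    rw [Category.comp_id]
    exact fac_aux X n s hi f
  uniq s g hg := by
    apply uniq_aux X n s g
    intro k
    have h := hg (sArr n (⦋0⦌.const ⦋m⦌ k) (Nat.zero_le n))
    change g ≫ (cmap X (⦋0⦌.const ⦋m⦌ k) ≫ 𝟙 _) = leg X n s (Nat.zero_le n) (⦋0⦌.const ⦋m⦌ k) at h
    rw [Category.comp_id] at h
    exact h

theorem cech_isCoskeletal : SimplicialObject.IsCoskeletal (cechNerveTerminalFrom X) n where
  isRightKanExtension :=
    RightExtension.IsPointwiseRightKanExtension.isRightKanExtension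
      (E := rightExtensionInclusion (cechNerveTerminalFrom X) n)
      (fun Δ => cechIsPointwise X n Δ.unop.len)

end Groth.Agent.Lib.Helper6.Cosk
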