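import Mathlib.AlgebraicTopology.SimplicialSet.KanComplex
import Mathlib.AlgebraicTopology.SimplicialObject.Coskeletal
import Mathlib.AlgebraicTopology.SimplicialSet.Coskeletal
import Mathlib.AlgebraicTopology.SimplicialSet.StdSimplex
import Mathlib.CategoryTheory.Functor.KanExtension.Pointwise

set_option linter.unusedSectionVars false
set_option linter.unusedVariables false
set_option linter.unusedSimpArgs false
set_option autoImplicit false
set_option linter.style.haveILetI false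
set_option maxHeartbeats 400000

noncomputable section

namespace Groth.Agent.Lib.Helper6.Cosk.Std

open CategoryTheory CategoryTheory.Limits Opposite SimplexCategory Simplicial
open CategoryTheory.Functor SimplicialObject SimplicialObject.Truncated

universe u

variable (N t : ℕ)

/-- The structured arrow associated to a map from a small simplex. -/
abbrev sArr {i m : ℕ} (φ : ⦋i⦌ ⟶ ⦋m⦌) (hi : i ≤ t) :
    StructuredArrow (op ⦋m⦌) (SimplexCategory.Truncated.inclusion t).op :=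
  StructuredArrow.mk (Y := op (⟨⦋i⦌, hi⟩ : SimplexCategory.Truncated t)) φ.op

/-- the standard simplex -/
abbrev D : SSet.{u} := SSet.stdSimplex.{u}.obj (SimplexCategory.mk N)

lemma D_map_apply {a b : ℕ} (g : ⦋a⦌ ⟶ ⦋b⦌) (y : (D.{u} N) _⦋b⦌) (k : Fin (a + 1)) :
    ((D.{u} N).map g.op y) k = y (g.toOrderHom k) := rfl

/-- cone leg, typed -/
def leg {m : ℕ}
    (s : Cone (StructuredArrow.proj (op ⦋m⦌) (SimplexCategory.Truncated.inclusion t).op ⋙
      (SimplexCategory.Truncated.inclusion t).op ⋙ D.{u} N))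
    {i : ℕ} (hi : i ≤ t) (f : ⦋i⦌ ⟶ ⦋m⦌) (x : s.pt) : (D.{u} N) _⦋i⦌ :=
  s.π.app (sArr t f hi) x

lemma leg_w {m : ℕ}
    (s : Cone (StructuredArrow.proj (op ⦋m⦌) (SimplexCategory.Truncated.inclusion t).op ⋙
      (SimplexCategory.Truncated.inclusion t).op ⋙ D.{u} N))
    {i i' : ℕ} (hi : i ≤ t) (hi' : i' ≤ t) (f : ⦋i⦌ ⟶ ⦋m⦌) (g : ⦋i'⦌ ⟶ ⦋i⦌) (x : s.pt) :
    (D.{u} N).map g.op (leg N t s hi f x) = leg N t s hi' (g ≫ f) x := by
  let α : sArr t f hi ⟶ sArr t (g ≫ f) hi' :=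
    StructuredArrow.homMk ((SimplexCategory.Truncated.Hom.tr g).op) (by
      apply Quiver.Hom.unop_inj
      rfl)
  exact ConcreteCategory.congr_hom (s.w α) x

/-- vertex function -/
def vtx {m : ℕ}
    (s : Cone (StructuredArrow.proj (op ⦋m⦌) (SimplexCategory.Truncated.inclusion t).op ⋙
      (SimplexCategory.Truncated.inclusion t).op ⋙ D.{u} N))
    (x : s.pt) (k : Fin (m + 1)) : Fin (N + 1) :=
  (leg N t s (Nat.zero_le t) (⦋0⦌.const ⦋m⦌ k) x) 0

lemma leg_apply {m : ℕ}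
    (s : Cone (StructuredArrow.proj (op ⦋m⦌) (SimplexCategory.Truncated.inclusion t).op ⋙
      (SimplexCategory.Truncated.inclusion t).op ⋙ D.{u} N))
    {i : ℕ} (hi : i ≤ t) (f : ⦋i⦌ ⟶ ⦋m⦌) (x : s.pt) (k : Fin (i + 1)) :
    (leg N t s hi f x) k = vtx N t s x (f.toOrderHom k) := by
  have h := leg_w N t s hi (Nat.zero_le t) f (⦋0⦌.const ⦋i⦌ k) x
  have e : (⦋0⦌.const ⦋i⦌ k) ≫ f = ⦋0⦌.const ⦋m⦌ (f.toOrderHom k) := by
    ext y; rfl
  rw [e] at h
  unfold vtx
  rw [← h, D_map_apply]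
  rfl

lemma vtx_mono (ht : 1 ≤ t) {m : ℕ}
    (s : Cone (StructuredArrow.proj (op ⦋m⦌) (SimplexCategory.Truncated.inclusion t).op ⋙
      (SimplexCategory.Truncated.inclusion t).op ⋙ D.{u} N))
    (x : s.pt) : Monotone (vtx N t s x) := by
  intro k l hkl
  have h0 := leg_apply N t s ht (mkOfLe k l hkl) x 0
  have h1 := leg_apply N t s ht (mkOfLe k l hkl) x 1
  have hm := SSet.stdSimplex.monotone_apply (leg N t s ht (mkOfLe k l hkl) x)
    (show (0 : Fin 2) ≤ 1 by decide)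
  simp only at hm
  rw [h0, h1] at hm
  exact hm

/-- the lift -/
def stdLift (ht : 1 ≤ t) {m : ℕ}
    (s : Cone (StructuredArrow.proj (op ⦋m⦌) (SimplexCategory.Truncated.inclusion t).op ⋙
      (SimplexCategory.Truncated.inclusion t).op ⋙ D.{u} N))
    (x : s.pt) : (D.{u} N) _⦋m⦌ :=
  SSet.stdSimplex.objMk (n := ⦋N⦌) (m := op ⦋m⦌) ⟨vtx N t s x, vtx_mono N t ht s x⟩

lemma stdLift_apply (ht : 1 ≤ t) {m : ℕ}
    (s : Cone (StructuredArrow.proj (op ⦋m⦌) (SimplexCategory.Truncated.inclusion t).op ⋙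
      (SimplexCategory.Truncated.inclusion t).op ⋙ D.{u} N))
    (x : s.pt) (k : Fin (m + 1)) : stdLift N t ht s x k = vtx N t s x k := rfl

lemma fac_aux (ht : 1 ≤ t) {m : ℕ}
    (s : Cone (StructuredArrow.proj (op ⦋m⦌) (SimplexCategory.Truncated.inclusion t).op ⋙
      (SimplexCategory.Truncated.inclusion t).op ⋙ D.{u} N))
    {i : ℕ} (hi : i ≤ t) (f : ⦋i⦌ ⟶ ⦋m⦌) (x : s.pt) :
    (D.{u} N).map f.op (stdLift N t ht s x) = leg N t s hi f x := by
  apply SSet.stdSimplex.ext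
  intro k
  rw [D_map_apply, stdLift_apply, leg_apply]

lemma uniq_aux (ht : 1 ≤ t) {m : ℕ}
    (s : Cone (StructuredArrow.proj (op ⦋m⦌) (SimplexCategory.Truncated.inclusion t).op ⋙
      (SimplexCategory.Truncated.inclusion t).op ⋙ D.{u} N))
    (x : s.pt) (y : (D.{u} N) _⦋m⦌)
    (hy : ∀ k : Fin (m + 1), (D.{u} N).map (⦋0⦌.const ⦋m⦌ k).op y =
      leg N t s (Nat.zero_le t) (⦋0⦌.const ⦋m⦌ k) x) :
    y = stdLift N t ht s x := by
  apply SSet.stdSimplex.ext
  intro k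
  rw [stdLift_apply]
  unfold vtx
  rw [← hy k, D_map_apply]
  rfl

/-- pointwise right Kan extension -/
def stdIsPointwise (ht : 1 ≤ t) (m : ℕ) :
    (rightExtensionInclusion (D.{u} N) t).IsPointwiseRightKanExtensionAt ⟨⦋m⦌⟩ where
  lift s := ↾fun x ↦ stdLift N t ht s x
  fac s j := by
    ext x
    obtain ⟨⟨i, hi⟩, ⟨f : _ ⟶ _⟩, rfl⟩ := j.mk_surjective
    obtain ⟨i, rfl⟩ : ∃ j, ⦋j⦌ = i := ⟨_, i.mk_len⟩
    change i ≤ t at hi
    change ⦋i⦌ ⟶ ⦋m⦌ at f
    exact fac_aux N t ht s hi f x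
  uniq s g hg := by
    ext x
    apply uniq_aux N t ht s x
    intro k
    exact ConcreteCategory.congr_hom (hg (sArr t (⦋0⦌.const ⦋m⦌ k) (Nat.zero_le t))) x

theorem std_isCoskeletal (ht : 1 ≤ t) : SimplicialObject.IsCoskeletal (D.{u} N) t where
  isRightKanExtension :=
    RightExtension.IsPointwiseRightKanExtension.isRightKanExtension
      (E := rightExtensionInclusion (D.{u} N) t)
      (fun Δ => stdIsPointwise N t ht Δ.unop.len)

end Groth.Agent.Lib.Helper6.Cosk.Std
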